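import Cfsg.Agent.Lib.ZNPair18.Shape
import Cfsg.Agent.Lib.Fusion.Thompson
import Mathlib.GroupTheory.PGroup

/-!
# The central involution of a pair lies outside the subgroup generated by odd elements

If `cK T K` has order two, with involution `c`, transfer to a Sylow 2-subgroup shows that `c` is
not a product of elements of odd order.

Owner: helper18.
-/

set_option autoImplicit false
set_option linter.style.haveILetI false
set_option linter.unusedSectionVars false

open scoped commutatorElement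

namespace Cfsg.Agent.Lib.ZNPair18

open Cfsg.Agent.Lib
open LAEven56.JComp

variable {G : Type*} [Group G] [Finite G] {T K L K' L' : Subgroup G}

theorem normalizer_w_eq (p : Pair T K L K' L') (hG : ZNHyp G) :
    Subgroup.normalizer (Cfsg.wOf K : Set G) = L :=
  p.left.maximal.2 _ (isTwoLocal_normalizer_wOf p.left.two p.left.comp)
    ((p.local_le_normalizer hG).trans (normalizer_le_normalizer_wOf K))

theorem exists_c (p : Pair T K L K' L') (h2 : Nat.card (cK T K) = 2) :
    ∃ c ∈ cK T K, c ≠ 1 := by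
  refine (Subgroup.bot_or_exists_ne_one _).resolve_left fun e => ?_
  rw [e, Subgroup.card_bot] at h2
  omega

section Two

variable (p : Pair T K L K' L') (hG : ZNHyp G) {c : G} (hc : c ∈ cK T K) (hc1 : c ≠ 1)

include p hG hc hc1

theorem card_cK_two : Nat.card (cK T K) = 2 := by
  rcases card_cK_cases p with h | h
  · exact absurd (Subgroup.mem_bot.1 (Subgroup.card_eq_one.1 h ▸ hc)) hc1
  · exact h

theorem c_mem_T : c ∈ T :=
  LocalData.core_le_T p.left.mem (PLocal.omegaCenterOf_le _ (p.cK_le_vC hG hc))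

theorem c_sq : c * c = 1 := by rw [← pow_two]; exact (zJ_elemAb T).2 c hc.1

theorem c_comm {t : G} (ht : t ∈ L) : t * c = c * t :=
  (Subgroup.mem_centralizer_iff.1 (p.le_centralizer_cK hG ht) c hc).symm

theorem c_notMem : c ∉ dih K K' := fun h => by
  have hC : c ∈ Subgroup.centralizer (Cfsg.wOf K : Set G) := Subgroup.mem_centralizer_iff.2 fun w hw =>
    c_comm p hG hc hc1 ((p.left.wOf_le.trans p.left.mem.1.1) hw)
  exact hc1 (Subgroup.mem_bot.1 (cK_inf_wOf (pre p) ▸ ⟨hc, (mem_centralizer_iff_w p hG h).1 hC⟩))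

theorem card_T_two : Nat.card T = 16 := by
  rw [p.card_T hG, card_cK_two p hG hc hc1]

theorem T_cases {t : G} (ht : t ∈ T) : t ∈ dih K K' ∨ t * c ∈ dih K K' := by
  set X := dih K K' ⊔ Subgroup.zpowers c with hX
  have hcN : Subgroup.zpowers c ≤ Subgroup.normalizer (dih K K' : Set G) :=
    Subgroup.zpowers_le.2 <| Subgroup.centralizer_le_normalizer _ <| Subgroup.mem_centralizer_iff.2
      fun d hd => c_comm p hG hc hc1 (p.left.mem.1.1 (dih_le p hd))
  have hmem : ∀ x ∈ Subgroup.zpowers c, x = 1 ∨ x = c := by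
    rintro _ ⟨n, rfl⟩
    rcases Int.even_or_odd' n with ⟨k, rfl | rfl⟩
    · exact Or.inl (by simp [zpow_mul, pow_two, c_sq p hG hc hc1, zpow_ofNat])
    · exact Or.inr (by simp [zpow_add, zpow_mul, pow_two, c_sq p hG hc hc1, zpow_ofNat])
  have hbot : Subgroup.zpowers c ⊓ dih K K' = ⊥ := le_bot_iff.1 fun x hx => Subgroup.mem_bot.2
    ((hmem x hx.1).resolve_right fun e => c_notMem p hG hc hc1 (e ▸ hx.2))
  have h := PLocal.card_sup_mul_card_inf hcN
  rw [hbot, Subgroup.card_bot, mul_one, card_dih p hG, Nat.card_zpowers,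
    orderOf_eq_prime (by rw [pow_two]; exact c_sq p hG hc hc1) hc1, sup_comm, ← hX] at h
  have hXT : X = T := Subgroup.eq_of_le_of_card_ge
    (sup_le (dih_le p) (Subgroup.zpowers_le.2 (c_mem_T p hG hc hc1))) (by rw [h, card_T_two p hG hc hc1])
  have ht' : t ∈ ((dih K K' ⊔ Subgroup.zpowers c : Subgroup G) : Set G) := hXT.ge ht
  rw [Subgroup.coe_mul_of_right_le_normalizer_left _ _ hcN] at ht'
  obtain ⟨d, hd, x, hx, rfl⟩ := ht'
  rcases hmem x hx with rfl | rfl
  · exact Or.inl (by simpa using hd)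
  · refine Or.inr ?_
    rw [mul_assoc, c_sq p hG hc hc1, mul_one]
    exact hd

theorem sq_mem_dih {t : G} (ht : t ∈ T) : t * t ∈ dih K K' := by
  rcases T_cases p hG hc hc1 ht with h | h
  · exact mul_mem h h
  · have e : t * t = t * c * (t * c) := by
      rw [show t * c * (t * c) = t * (c * t) * c by group, ← c_comm p hG hc hc1 (p.left.mem.1.1 ht),
        show t * (t * c) * c = t * t * (c * c) by group, c_sq p hG hc hc1, mul_one]
    rw [e]
    exact mul_mem h h

/-- The involution `c` is not conjugate into the dihedral subgroup. -/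
theorem not_conj_dih (g : G) : g * c * g⁻¹ ∉ dih K K' := by
  haveI : Fact (Nat.Prime 2) := ⟨Nat.prime_two⟩
  intro hd
  obtain ⟨z, hz, hz', hz1, honly⟩ := exists_z p hG
  -- every element of a four-group of the pair is conjugate to `z`
  have hfour : ∀ {T1 K1 L1 K2 L2 : Subgroup G}, Pair T1 K1 L1 K2 L2 → z ∈ Cfsg.wOf K1 →
      ∀ x ∈ Cfsg.wOf K1, x ≠ 1 → ∃ n : G, n * x * n⁻¹ = z := by
    intro T1 K1 L1 K2 L2 q hzq x hx hx1
    obtain ⟨d, hdK, -, hd3, hgen⟩ := (pre q).exists_three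
    have hdN : d ∈ Subgroup.normalizer (Cfsg.wOf K1 : Set G) :=
      normalizer_le_normalizer_wOf K1 (Subgroup.le_normalizer hdK)
    have hnf : ∀ a ∈ Cfsg.wOf K1, a ≠ 1 → d * a * d⁻¹ ≠ a := fun a ha ha1 e =>
      ha1 ((pre q).no_fixed hdK hd3 hgen a ha (mul_inv_eq_iff_eq_mul.1 e))
    set x1 := d * x * d⁻¹ with hx1d
    have hx1m : x1 ∈ Cfsg.wOf K1 := (Subgroup.mem_normalizer_iff.1 hdN x).1 hx
    have hx11 : x1 ≠ 1 := fun e => hx1 (conj_eq_one_iff.1 e)
    have hx2m : d * x1 * d⁻¹ ∈ Cfsg.wOf K1 := (Subgroup.mem_normalizer_iff.1 hdN x1).1 hx1m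
    rcases four_eq q hx hx1 hx1m hx11 (hnf x hx hx1) hzq with e | e | e | e
    · exact absurd e hz1
    · exact ⟨1, by simp [e]⟩
    · exact ⟨d, e.symm⟩
    · refine ⟨d * d, ?_⟩
      rw [show d * d * x * (d * d)⁻¹ = d * x1 * d⁻¹ by rw [hx1d]; group, e]
      rcases four_eq q hx hx1 hx1m hx11 (hnf x hx hx1) hx2m with f | f | f | f
      · exact absurd (conj_eq_one_iff.1 f) hx11
      · exfalso
        apply hnf x hx hx1
        calc d * x * d⁻¹ = d * (d * x1 * d⁻¹) * d⁻¹ := by rw [f]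
          _ = d ^ 3 * x * (d ^ 3)⁻¹ := by rw [hx1d, pow_succ, pow_two]; group
          _ = x := by rw [hd3]; group
      · exact absurd f (hnf x1 hx1m hx11)
      · exact f
  have hd1 : g * c * g⁻¹ ≠ 1 := fun e => hc1 (conj_eq_one_iff.1 e)
  have hd2 : g * c * g⁻¹ * (g * c * g⁻¹) = 1 := by
    rw [show g * c * g⁻¹ * (g * c * g⁻¹) = g * (c * c) * g⁻¹ by group, c_sq p hG hc hc1, mul_one, mul_inv_cancel]
  obtain ⟨n, hn⟩ : ∃ n : G, n * (g * c * g⁻¹) * n⁻¹ = z := by
    rcases invol_mem p hG hd hd2 with h | h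
    · exact hfour p hz _ h hd1
    · exact hfour p.symm hz' _ h hd1
  -- `z` is a square in `T`, hence `c` is one in a conjugate of `T` inside `L = C(c)`
  obtain ⟨w, hw, hwn⟩ : ∃ w ∈ Cfsg.wOf K, w ∉ Cfsg.wOf K' := by
    by_contra hcon
    push Not at hcon
    have h1 : Cfsg.wOf K ⊓ Cfsg.wOf K' = Cfsg.wOf K := inf_eq_left.2 hcon
    have := card_inter p hG
    rw [h1, card_w p] at this
    omega
  obtain ⟨w', hw', hwn'⟩ : ∃ w' ∈ Cfsg.wOf K', w' ∉ Cfsg.wOf K := by
    by_contra hcon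
    push Not at hcon
    have h1 : Cfsg.wOf K ⊓ Cfsg.wOf K' = Cfsg.wOf K' := inf_eq_right.2 hcon
    have := card_inter p hG
    rw [h1, card_w p.symm] at this
    omega
  have hsq : w * w' * (w * w') = z := by
    refine (honly _ ?_ ?_).resolve_left fun e => not_commute_of_notMem p hG hw hw' hwn hwn' ?_
    · have h1 : w' * w * w'⁻¹ ∈ Cfsg.wOf K :=
        (Subgroup.mem_normalizer_iff.1 (w_le_normalizer p hG hw') w).1 hw
      rw [inv_eq_of_mul_eq_one_right (w_sq p.symm hw')] at h1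
      rw [show w * w' * (w * w') = w * (w' * w * w') by group]
      exact mul_mem hw h1
    · have h1 : w * w' * w⁻¹ ∈ Cfsg.wOf K' :=
        (Subgroup.mem_normalizer_iff.1 (w_le_normalizer p.symm hG hw) w').1 hw'
      rw [inv_eq_of_mul_eq_one_right (w_sq p hw)] at h1
      rw [show w * w' * (w * w') = w * w' * w * w' by group]
      exact mul_mem h1 hw'
    · calc w * w' = (w * w')⁻¹ := (inv_eq_of_mul_eq_one_right e).symm
        _ = w'⁻¹ * w⁻¹ := mul_inv_rev _ _
        _ = w' * w := by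
          rw [inv_eq_of_mul_eq_one_right (w_sq p.symm hw'), inv_eq_of_mul_eq_one_right (w_sq p hw)]
  set m := (n * g)⁻¹ with hm
  set v := m * (w * w') * m⁻¹ with hv
  have hvv : v * v = c := by
    rw [hv, show m * (w * w') * m⁻¹ * (m * (w * w') * m⁻¹) = m * (w * w' * (w * w')) * m⁻¹ by group, hsq,
      ← hn, hm]
    group
  have hvL : v ∈ L := by
    rw [← p.local_eq_centralizer hG hc hc1]
    exact Subgroup.mem_centralizer_singleton_iff.2 (by rw [← hvv]; group)
  have hv2 : IsPGroup 2 (Subgroup.zpowers v) := by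
    refine ((p.left.two).map (MulAut.conj m).toMonoidHom).to_le (Subgroup.zpowers_le.2 ⟨w * w', ?_, rfl⟩)
    exact mul_mem (p.left.wOf_le hw) (p.right.wOf_le hw')
  obtain ⟨T1, hT1, hvT1⟩ := exists_sylowTwoIn hv2 (Subgroup.zpowers_le.2 hvL)
  obtain ⟨l, hl, hlT⟩ := (isSylowIn_of_two hT1).exists_conj (isSylowIn_of_two p.left.mem.1)
  have hlv : l * v * l⁻¹ ∈ T := hlT ▸ ⟨v, hvT1 (Subgroup.mem_zpowers v), rfl⟩
  refine c_notMem p hG hc hc1 ?_
  have e : l * v * l⁻¹ * (l * v * l⁻¹) = c := by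
    rw [show l * v * l⁻¹ * (l * v * l⁻¹) = l * (v * v) * l⁻¹ by group, hvv, c_comm p hG hc hc1 hl,
      mul_inv_cancel_right]
  exact e ▸ sq_mem_dih p hG hc hc1 hlv

theorem mem_core_or_of_sq {x : G} (hx : x ∈ T) (hx2 : x * x = 1) :
    x ∈ Cfsg.pCoreOf 2 L ∨ x ∈ Cfsg.pCoreOf 2 L' := by
  obtain ⟨c', hc', hc'1⟩ := exists_c p.symm (p.card_cK_eq hG ▸ card_cK_two p hG hc hc1)
  have hcore : c ∈ Cfsg.pCoreOf 2 L := PLocal.omegaCenterOf_le _ (p.cK_le_vC hG hc)
  rcases T_cases p hG hc hc1 hx with h | h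
  · exact (invol_mem p hG h hx2).imp (fun h' => w_le_core p hG h') (fun h' => w_le_core p.symm hG h')
  · have h2 : x * c * (x * c) = 1 := by
      rw [show x * c * (x * c) = x * (c * x) * c by group, ← c_comm p hG hc hc1 (p.left.mem.1.1 hx),
        show x * (x * c) * c = x * x * (c * c) by group, hx2, one_mul, c_sq p hG hc hc1]
    rcases invol_mem p hG h h2 with h' | h'
    · left
      have := mul_mem (w_le_core p hG h') hcore
      rwa [mul_assoc, c_sq p hG hc hc1, mul_one] at this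
    · right
      have hc'T : c' ∈ T := c_mem_T p.symm hG hc' hc'1
      have hc'C : c ∈ Cfsg.pCoreOf 2 L' := by
        rw [← p.symm.inf_centralizer_eq hG]
        exact ⟨c_mem_T p hG hc hc1, Subgroup.mem_centralizer_iff.2 fun a ha =>
          c_comm p hG hc hc1 (p.left.mem.1.1 (p.right.wOf_le ha))⟩
      have := mul_mem (w_le_core p.symm hG h') hc'C
      rwa [mul_assoc, c_sq p hG hc hc1, mul_one] at this

/-- An element of a 2-group normalising `T` outside `T` interchanges the two components. -/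
theorem swap {P : Subgroup G} (hP : IsPGroup 2 P) {y : G} (hy : y ∈ P)
    (hyN : y ∈ Subgroup.normalizer (T : Set G)) (hyT : y ∉ T) :
    K.map (MulAut.conj y).toMonoidHom = K' ∧
      ∀ w ∈ Cfsg.wOf K, y * w * y⁻¹ ∈ Cfsg.wOf K' := by
  have hyL : y ∉ L := fun h => hyT (p.left.mem_T hP hy h hyN)
  set f := (MulAut.conj y).toMonoidHom with hf
  have p3 := p.left.pair_of_not_mem hyN hyL
  have hL3 : L.map f = L' := by
    by_contra hne
    have hW : ∀ x ∈ Cfsg.wOf (K.map f), x ∈ Cfsg.pCoreOf 2 L ∨ x ∈ Cfsg.pCoreOf 2 L' := fun x hx =>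
      mem_core_or_of_sq p hG hc hc1 (p3.right.wOf_le hx) (w_sq p3.symm hx)
    have hle : Cfsg.wOf (K.map f) ≤ Cfsg.pCoreOf 2 L ∨ Cfsg.wOf (K.map f) ≤ Cfsg.pCoreOf 2 L' := by
      by_contra hcon
      push Not at hcon
      obtain ⟨⟨a, ha, ha'⟩, b, hb, hb'⟩ := hcon.imp SetLike.not_le_iff_exists.1 SetLike.not_le_iff_exists.1
      rcases hW _ (mul_mem ha hb) with h | h
      · exact ha' (by simpa using mul_mem h (inv_mem ((hW b hb).resolve_right hb')))
      · exact hb' (by simpa using mul_mem (inv_mem ((hW a ha).resolve_left ha')) h)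
    rcases hle with h | h
    · refine not_commute p3 hG fun x hx => Subgroup.mem_centralizer_iff.2 fun a ha => ?_
      exact vC_comm (p.wOf_le_vC hG ha) (p.core_eq_vC hG ▸ h hx)
    · have p4 : Pair T (K.map f) (L.map f) K' L' := ⟨p3.right, p.right, hne⟩
      refine not_commute p4.symm hG fun x hx => Subgroup.mem_centralizer_iff.2 fun a ha => ?_
      exact vC_comm (p.symm.wOf_le_vC hG ha) (p.symm.core_eq_vC hG ▸ h hx)
  have hKf : K.map f = K' := by
    have h1 : oddGen L = K := by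
      rw [p.local_eq_sup hG]
      exact oddGen_sup_eq (p.le_normalizer hG) p.left.two p.left.comp.1
    have h2 : oddGen L' = K' := by
      rw [p.symm.local_eq_sup hG]
      exact oddGen_sup_eq (p.symm.le_normalizer hG) p.left.two p.right.comp.1
    rw [← h1, map_oddGen f (MulAut.conj y).injective, hL3, h2]
  refine ⟨hKf, fun w hw => ?_⟩
  rw [← hKf, ← map_wOf f (MulAut.conj y).injective]
  exact ⟨w, hw, rfl⟩

theorem conj_c {P : Subgroup G} (hP : IsPGroup 2 P) {y : G} (hy : y ∈ P)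
    (hyN : y ∈ Subgroup.normalizer (T : Set G)) (hyT : y ∉ T) :
    y * c * y⁻¹ * c ∈ Cfsg.wOf K ∧ y * c * y⁻¹ * c ∈ Cfsg.wOf K' ∧ y * c * y⁻¹ * c ≠ 1 := by
  obtain ⟨hKf, -⟩ := swap p hG hc hc1 hP hy hyN hyT
  set c' := y * c * y⁻¹ with hc'd
  have hc'1 : c' ≠ 1 := fun e => hc1 (conj_eq_one_iff.1 e)
  have hyZ : y ∈ Subgroup.normalizer (zJ T : Set G) := by
    rw [mem_normalizer_iff_map]
    change (PLocal.omegaCenterOf 2 (jT T)).map _ = _
    rw [PLocal.map_omegaCenterOf _ (MulAut.conj y).injective,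
      mem_normalizer_iff_map.1 (normalizer_le_normalizer_jT T hyN)]
    rfl
  have hc' : c' ∈ cK T K' := by
    refine ⟨(Subgroup.mem_normalizer_iff.1 hyZ c).1 hc.1, Subgroup.mem_centralizer_iff.2 fun k hk => ?_⟩
    rw [← hKf] at hk
    obtain ⟨k0, hk0, rfl⟩ := hk
    change y * k0 * y⁻¹ * c' = c' * (y * k0 * y⁻¹)
    rw [hc'd, show y * k0 * y⁻¹ * (y * c * y⁻¹) = y * (k0 * c) * y⁻¹ by group,
      c_comm p hG hc hc1 (p.left.le hk0)]
    group
  have hne : c' * c ≠ 1 := fun e => by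
    have h : c' = c := by rw [eq_inv_of_mul_eq_one_left e, inv_eq_of_mul_eq_one_right (c_sq p hG hc hc1)]
    exact hc1 (p.cK_disjoint hc (h ▸ hc'))
  have hD : c' * c ∈ dih K K' :=
    (T_cases p hG hc hc1 (c_mem_T p.symm hG hc' hc'1)).resolve_left (c_notMem p.symm hG hc' hc'1 <| dih_comm K K' ▸ ·)
  have hcent : ∀ t ∈ T, t * (c' * c) = c' * c * t := fun t ht => by
    calc t * (c' * c) = t * c' * c := (mul_assoc t c' c).symm
      _ = c' * t * c := by rw [c_comm p.symm hG hc' hc'1 (p.right.mem.1.1 ht)]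
      _ = c' * (t * c) := mul_assoc c' t c
      _ = c' * (c * t) := by rw [c_comm p hG hc hc1 (p.left.mem.1.1 ht)]
      _ = c' * c * t := (mul_assoc c' c t).symm
  refine ⟨(mem_centralizer_iff_w p hG hD).1 (Subgroup.mem_centralizer_iff.2 fun a ha => hcent a (p.left.wOf_le ha)),
    (mem_centralizer_iff_w p.symm hG (dih_comm K K' ▸ hD)).1
      (Subgroup.mem_centralizer_iff.2 fun a ha => hcent a (p.right.wOf_le ha)), hne⟩

/-- A Sylow 2-subgroup containing `T` normalises it. -/
theorem sylow_le_normalizer (S : Sylow 2 G) (hTS : T ≤ (S : Subgroup G)) :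
    (S : Subgroup G) ≤ Subgroup.normalizer (T : Set G) := by
  haveI : Fact (Nat.Prime 2) := ⟨Nat.prime_two⟩
  have hsmall : ∀ B : Subgroup G, Cfsg.IsElementaryAbelian 2 B → Nat.card B = 8 →
      B ≤ (S : Subgroup G) ⊓ Subgroup.normalizer (T : Set G) → B ≤ T := by
    intro B hB h8 hBN
    by_contra hBT
    obtain ⟨b0, hb0, hb0T⟩ := SetLike.not_le_iff_exists.1 hBT
    have hsq : ∀ b ∈ B, b * b = 1 := fun b hb => by rw [← pow_two]; exact hB.2 b hb
    obtain ⟨hKf, hy⟩ := swap p hG hc hc1 S.isPGroup' (hBN hb0).1 (hBN hb0).2 hb0T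
    obtain ⟨-, hy'⟩ := swap p.symm hG
      (c := b0 * c * b0⁻¹) (hc := by
        obtain ⟨h1, h2, -⟩ := conj_c p hG hc hc1 S.isPGroup' (hBN hb0).1 (hBN hb0).2 hb0T
        refine ⟨?_, Subgroup.mem_centralizer_iff.2 fun k hk => ?_⟩
        · have hyZ : b0 ∈ Subgroup.normalizer (zJ T : Set G) := by
            rw [mem_normalizer_iff_map]
            change (PLocal.omegaCenterOf 2 (jT T)).map _ = _
            rw [PLocal.map_omegaCenterOf _ (MulAut.conj b0).injective,
              mem_normalizer_iff_map.1 (normalizer_le_normalizer_jT T (hBN hb0).2)]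
            rfl
          exact (Subgroup.mem_normalizer_iff.1 hyZ c).1 hc.1
        · rw [← hKf] at hk
          obtain ⟨k0, hk0, rfl⟩ := hk
          change b0 * k0 * b0⁻¹ * (b0 * c * b0⁻¹) = b0 * c * b0⁻¹ * (b0 * k0 * b0⁻¹)
          rw [show b0 * k0 * b0⁻¹ * (b0 * c * b0⁻¹) = b0 * (k0 * c) * b0⁻¹ by group,
            c_comm p hG hc hc1 (p.left.le hk0)]
          group)
      (fun e => hc1 (conj_eq_one_iff.1 e)) S.isPGroup' (hBN hb0).1 (hBN hb0).2 hb0T
    have h2 : Nat.card B ≤ 2 * Nat.card (B ⊓ T : Subgroup G) := by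
      refine card_le_two_mul_inf fun x hx hxT u hu huT => ?_
      have hxu : x⁻¹ * u ∈ Subgroup.normalizer (T : Set G) := mul_mem (inv_mem (hBN hx).2) (hBN hu).2
      refine p.left.mem_T S.isPGroup' (mul_mem (inv_mem (hBN hx).1) (hBN hu).1) ?_ hxu
      obtain ⟨hxK, -⟩ := swap p hG hc hc1 S.isPGroup' (hBN hx).1 (hBN hx).2 hxT
      obtain ⟨huK, -⟩ := swap p hG hc hc1 S.isPGroup' (hBN hu).1 (hBN hu).2 huT
      rw [← normalizer_w_eq p hG]
      refine normalizer_le_normalizer_wOf K ?_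
      rw [mem_normalizer_iff_map]
      calc K.map (MulAut.conj (x⁻¹ * u)).toMonoidHom
          = (K.map (MulAut.conj u).toMonoidHom).map (MulAut.conj x⁻¹).toMonoidHom := by
            rw [Subgroup.map_map]; congr 1; ext a; simp [mul_assoc]
        _ = (K.map (MulAut.conj x).toMonoidHom).map (MulAut.conj x⁻¹).toMonoidHom := by rw [huK, hxK]
        _ = K := by
            rw [Subgroup.map_map]
            convert Subgroup.map_id K
            ext a; simp [mul_assoc]
    obtain ⟨z, hz, hz', hz1, honly⟩ := exists_z p hG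
    have hle : B ⊓ T ≤ Cfsg.wOf K ⊓ Cfsg.wOf K' := by
      rintro b ⟨hbB, hbT⟩
      have hb2 := hsq b hbB
      have hbc : b0 * b * b0⁻¹ = b := mul_inv_eq_iff_eq_mul.2 (PGroups.elemAb_comm hB hb0 hbB)
      rcases T_cases p hG hc hc1 hbT with h | h
      · rcases invol_mem p hG h hb2 with h' | h'
        · exact ⟨h', hbc ▸ hy b h'⟩
        · exact ⟨hbc ▸ hy' b h', h'⟩
      · exfalso
        obtain ⟨hzK, hzK', hzne⟩ := conj_c p hG hc hc1 S.isPGroup' (hBN hb0).1 (hBN hb0).2 hb0T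
        refine mul_swap_ne p hG hzK hzK' hzne (hsq b0 hb0) hy hy' h ?_
        have hzc : c * (b0 * c * b0⁻¹) = b0 * c * b0⁻¹ * c := PGroups.elemAb_comm (zJ_elemAb T) hc.1 <| by
          rw [show b0 * c * b0⁻¹ = b0 * c * b0⁻¹ * c * c by rw [mul_assoc _ c c, c_sq p hG hc hc1, mul_one]]
          refine mul_mem ?_ hc.1
          rcases honly _ hzK hzK' with e | e
          · exact absurd e hzne
          · rw [e, ← p.omegaCenter_eq hG]
            exact PGroups.mem_omegaOne_of_pow ⟨p.left.wOf_le hz, Subgroup.mem_centralizer_iff.2 fun t ht => by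
              have h3 : t * z * t⁻¹ = z := (honly _
                ((Subgroup.mem_normalizer_iff.1 (T_le_normalizer_w p hG ht) z).1 hz)
                ((Subgroup.mem_normalizer_iff.1 (T_le_normalizer_w p.symm hG ht) z).1 hz')).resolve_left
                  fun e => hz1 (conj_eq_one_iff.1 e)
              exact mul_inv_eq_iff_eq_mul.1 h3⟩ (by rw [pow_two]; exact w_sq p hz)
        rw [show b0 * (b * c) * b0⁻¹ = b0 * b * b0⁻¹ * (b0 * c * b0⁻¹) by group, hbc, ← hzc,
          show b * c * (b * (b0 * c * b0⁻¹)) = b * (c * b) * (b0 * c * b0⁻¹) by group,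
          ← c_comm p hG hc hc1 (p.left.mem.1.1 hbT),
          show b * (b * c) * (b0 * c * b0⁻¹) = b * b * (c * (b0 * c * b0⁻¹)) by group, hb2, one_mul]
    have h4 := Subgroup.card_le_of_le hle
    rw [card_inter p hG] at h4
    omega
  by_contra hlt
  set N := (S : Subgroup G) ⊓ Subgroup.normalizer (T : Set G) with hN
  obtain ⟨x, hx, hxN, hxn⟩ := exists_normalizing S.isPGroup' (inf_le_left : N ≤ (S : Subgroup G))
    (fun h => hlt (h.trans inf_le_right))
  set f := (MulAut.conj x).toMonoidHom with hf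
  have hcores : ∀ {T1 K1 L1 K2 L2 : Subgroup G} (q : Pair T1 K1 L1 K2 L2), Nat.card (cK T1 K1) = 2 →
      T1.map f ≤ N → (Cfsg.pCoreOf 2 L1).map f ≤ T := by
    intro T1 K1 L1 K2 L2 q h2 hle
    refine hsmall _ (PGroups.elemAb_map f ?_) ?_ ((Subgroup.map_mono (LocalData.core_le_T q.left.mem)).trans hle)
    · rw [q.core_eq_vC hG]; exact PLocal.omegaCenterOf_elemAb _
    · rw [Subgroup.card_map_of_injective (MulAut.conj x).injective, q.card_core hG, h2]
  have hTN : T ≤ N := le_inf hTS Subgroup.le_normalizer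
  have hTf : T.map f ≤ N := (Subgroup.map_mono hTN).trans (mem_normalizer_iff_map.1 hxn).le
  have h2' : Nat.card (cK T K') = 2 := p.card_cK_eq hG ▸ card_cK_two p hG hc hc1
  have h1 := hcores p (card_cK_two p hG hc hc1) hTf
  have h1' := hcores p.symm h2' hTf
  have hsup : Cfsg.pCoreOf 2 L ⊔ Cfsg.pCoreOf 2 L' = T := by
    set U := Cfsg.pCoreOf 2 L ⊔ Cfsg.pCoreOf 2 L' with hU
    have hUT : U ≤ T := sup_le (LocalData.core_le_T p.left.mem) (LocalData.core_le_T p.right.mem)
    obtain ⟨n, hn⟩ := IsPGroup.iff_card.1 (p.left.two.to_le hUT)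
    have hgt : Nat.card (Cfsg.pCoreOf 2 L) < Nat.card U := by
      by_contra hcon
      have e := Subgroup.eq_of_le_of_card_ge (le_sup_left : Cfsg.pCoreOf 2 L ≤ U) (not_lt.1 hcon)
      refine not_commute p hG fun a ha => Subgroup.mem_centralizer_iff.2 fun b hb => ?_
      exact vC_comm (p.wOf_le_vC hG hb) (p.core_eq_vC hG ▸ e.ge (Subgroup.mem_sup_right (w_le_core p.symm hG ha)))
    refine Subgroup.eq_of_le_of_card_ge hUT ?_
    rw [card_T_two p hG hc hc1, hn]
    rw [p.card_core hG, card_cK_two p hG hc hc1, hn] at hgt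
    rcases Nat.lt_or_ge n 4 with h | h
    · interval_cases n <;> simp at hgt
    · exact le_trans (by norm_num) (Nat.pow_le_pow_right (by norm_num : 0 < 2) h)
  have hxT : x ∈ Subgroup.normalizer (T : Set G) := by
    rw [mem_normalizer_iff_map]
    refine Subgroup.eq_of_le_of_card_ge ?_ (Subgroup.card_map_of_injective (MulAut.conj x).injective).ge
    rw [← hsup, Subgroup.map_sup, hsup]
    exact sup_le h1 h1'
  exact hxN ⟨hx, hxT⟩

end Two

end Cfsg.Agent.Lib.ZNPair18
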