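import Cfsg.Agent.Lib.ZNPair18.Transfer

/-!
# `Z_N`-groups of characteristic 2 type

Either a subgroup is strongly embedded, or the subgroup generated by the elements of odd order
has two maximal 2-local subgroups `Sym(4)` meeting in a group of order 8.

Owner: helper18.
-/

set_option autoImplicit false
set_option linter.style.haveILetI false
set_option linter.unusedSectionVars false

open scoped commutatorElement

namespace Cfsg.Agent.Lib.ZNPair18

open Cfsg.Agent.Lib
open LAEven56.JComp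

variable {G : Type*} [Group G] [Finite G] {T K L K' L' M : Subgroup G}

theorem T_inf_odd (p : Pair T K L K' L') (hG : ZNHyp G) :
    T ⊓ Subgroup.closure {g : G | Odd (orderOf g)} = dih K K' := by
  refine le_antisymm ?_ (le_inf (dih_le p) (dih_le_odd p))
  rintro t ⟨ht, hto⟩
  replace hto : t ∈ Subgroup.closure {g : G | Odd (orderOf g)} := hto
  rcases card_cK_cases p with h1 | h2
  · have e : dih K K' = T :=
      Subgroup.eq_of_le_of_card_ge (dih_le p) (by rw [p.card_T hG, h1, card_dih p hG])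
    exact e.ge ht
  · obtain ⟨c, hc, hc1⟩ := exists_c p h2
    refine (T_cases p hG hc hc1 ht).resolve_right fun h => cK_notMem_odd p hG hc hc1 ?_
    have := mul_mem (inv_mem hto) (dih_le_odd p h)
    rwa [inv_mul_cancel_left] at this

theorem local_inf_odd (p : Pair T K L K' L') (hG : ZNHyp G) :
    L ⊓ Subgroup.closure {g : G | Odd (orderOf g)} = sfour K K' := by
  refine le_antisymm ?_ (le_inf (sfour_le p) (sup_le (K_le_odd p) (dih_le_odd p)))
  rintro g ⟨hg, hgo⟩
  replace hgo : g ∈ Subgroup.closure {g : G | Odd (orderOf g)} := hgo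
  obtain ⟨d, hd, -, hd3, hgen⟩ := (pre p).exists_three
  obtain ⟨i, hi, ht⟩ := p.local_cases hG hd hd3 hgen hg
  have hiK : i ∈ K := by
    rcases hi with rfl | rfl | rfl
    exacts [one_mem _, hd, mul_mem hd hd]
  have hto : i⁻¹ * g ∈ dih K K' := (T_inf_odd p hG).le (Subgroup.mem_inf.2 ⟨ht, mul_mem (inv_mem (K_le_odd p hiK)) hgo⟩)
  have := mul_mem (Subgroup.mem_sup_left (T := dih K K') hiK) (Subgroup.mem_sup_right (S := K) hto)
  rwa [mul_inv_cancel_left] at this

/-- `d ∈ K` does not normalise the dihedral group. -/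
theorem not_le_local (p : Pair T K L K' L') (hG : ZNHyp G) : ¬ K ≤ L' := fun h => by
  refine p.ne (p.left.uniq L' p.right.maximal ?_).symm
  exact sup_le h ((PGroups.thompsonSubgroupOf_le 2 T).trans p.right.mem.1.1)

theorem sfour_ne (p : Pair T K L K' L') (hG : ZNHyp G) : sfour K K' ≠ sfour K' K := fun e =>
  not_le_local p hG ((le_sup_left : K ≤ sfour K K').trans (e.le.trans (sfour_le p.symm)))

theorem card_inf_sfour (p : Pair T K L K' L') (hG : ZNHyp G) :
    Nat.card (sfour K K' ⊓ sfour K' K : Subgroup G) = 8 := by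
  have hle : dih K K' ≤ sfour K K' ⊓ sfour K' K :=
    le_inf le_sup_right ((dih_comm K K').le.trans le_sup_right)
  have h8 : 8 ∣ Nat.card (sfour K K' ⊓ sfour K' K : Subgroup G) :=
    card_dih p hG ▸ Subgroup.card_dvd_of_le hle
  have h24 : Nat.card (sfour K K' ⊓ sfour K' K : Subgroup G) ∣ 24 :=
    card_sfour p hG ▸ Subgroup.card_dvd_of_le inf_le_left
  have hne : Nat.card (sfour K K' ⊓ sfour K' K : Subgroup G) ≠ 24 := fun e => by
    refine sfour_ne p hG ?_
    have e1 := Subgroup.eq_of_le_of_card_ge (inf_le_left : sfour K K' ⊓ sfour K' K ≤ sfour K K')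
      (by rw [card_sfour p hG, e])
    have e2 := Subgroup.eq_of_le_of_card_ge (inf_le_right : sfour K K' ⊓ sfour K' K ≤ sfour K' K)
      (by rw [card_sfour p.symm hG, e])
    exact e1.symm.trans e2
  have := Nat.le_of_dvd (by norm_num) h24
  interval_cases (Nat.card (sfour K K' ⊓ sfour K' K : Subgroup G)) <;> simp_all (config := { decide := true })

/-- A 2-subgroup generated inside the odd part and normalised by `K ⊔ D` is `W_K`. -/
theorem eq_w_of_normalized (p : Pair T K L K' L') (hG : ZNHyp G) {P : Subgroup G} (hP : IsPGroup 2 P)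
    (hP1 : P ≠ ⊥) (hPo : P ≤ Subgroup.closure {g : G | Odd (orderOf g)})
    (hn : sfour K K' ≤ Subgroup.normalizer (P : Set G)) : P = Cfsg.wOf K := by
  haveI : Fact (Nat.Prime 2) := ⟨Nat.prime_two⟩
  set X := sfour K K' with hX
  obtain ⟨d, hd, -, hd3, hgen⟩ := (pre p).exists_three
  have hdX : d ∈ X := Subgroup.mem_sup_left hd
  -- a fixed point of `W` on `P`
  have hWX : Cfsg.wOf K ≤ X := le_sup_of_le_right le_sup_left
  obtain ⟨x, hx, hx1⟩ := (Subgroup.bot_or_exists_ne_one _).resolve_left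
    (PLocal.fixOn_ne_bot (p := 2) (A := Cfsg.wOf K) (V := P) (hWX.trans hn)
      (PLocal.pActsOn_of_isPGroup (PGroups.elemAb_isPGroup (pre p).wOf_elemAb)) hP hP1)
  obtain ⟨hxP, hxf⟩ := PLocal.mem_fixOn.1 hx
  have hxC : x ∈ Subgroup.centralizer (Cfsg.wOf K : Set G) :=
    Subgroup.mem_centralizer_iff.2 fun w hw => hxf w hw
  have hxW : x ∈ Cfsg.wOf K := by
    have hxL : x ∈ L := normalizer_w_eq p hG ▸ Subgroup.centralizer_le_normalizer _ hxC
    have hxT : x ∈ T := LocalData.core_le_T p.left.mem (p.inf_centralizer_wOf_le hG ⟨hxL, hxC⟩)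
    exact (mem_centralizer_iff_w p hG ((T_inf_odd p hG).le ⟨hxT, hPo hxP⟩)).1 hxC
  have hWP : Cfsg.wOf K ≤ P := eq_top_of_invariant p hd hd3 hgen
    (fun a ha => (Subgroup.mem_normalizer_iff.1 (hn hdX) a).1 ha) hxP hxW hx1
  refine le_antisymm ?_ hWP
  by_contra hne
  obtain ⟨y, hy, hyW, hyN⟩ := exists_normalizing hP hWP hne
  rw [normalizer_w_eq p hG] at hyN
  have hyX : y ∈ X := (local_inf_odd p hG).le ⟨hyN, hPo hy⟩
  set R := X ⊓ P with hR
  have hRd : ∀ a ∈ R, d * a * d⁻¹ ∈ R := fun a ha =>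
    Subgroup.mem_inf.2 ⟨mul_mem (mul_mem hdX ha.1) (inv_mem hdX), (Subgroup.mem_normalizer_iff.1 (hn hdX) a).1 ha.2⟩
  have hRn : R.map (MulAut.conj d).toMonoidHom = R := Subgroup.eq_of_le_of_card_ge
    (by rintro _ ⟨a, ha, rfl⟩; exact hRd a ha)
    (Subgroup.card_map_of_injective (MulAut.conj d).injective).ge
  -- `R` is a normal Sylow 2-subgroup of `X`, so it is `D`
  have hRX : R ≤ X := inf_le_left
  have hXR : X ≤ Subgroup.normalizer (R : Set G) := fun g hg => Subgroup.inf_normalizer_le_normalizer_inf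
    ⟨Subgroup.le_normalizer hg, hn hg⟩
  have hRT : R ⊔ dih K K' ≤ X := sup_le hRX le_sup_right
  have h2 : IsPGroup 2 (R ⊔ dih K K' : Subgroup G) :=
    (hP.to_le inf_le_right).to_sup_of_normal_left' (p.left.two.to_le (dih_le p))
      ((le_sup_right : dih K K' ≤ X).trans hXR)
  have hsup : R ⊔ dih K K' = dih K K' := by
    refine (Subgroup.eq_of_le_of_card_ge le_sup_right ?_).symm
    obtain ⟨n, hn2⟩ := IsPGroup.iff_card.1 h2
    have hd24 : Nat.card (R ⊔ dih K K' : Subgroup G) ∣ 24 := card_sfour p hG ▸ Subgroup.card_dvd_of_le hRT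
    rw [hn2] at hd24
    rw [hn2, card_dih p hG]
    have : n ≤ 3 := by
      by_contra hc
      have : 16 ∣ 24 := (Nat.pow_dvd_pow 2 (show 4 ≤ n by omega)).trans hd24
      omega
    calc 2 ^ n ≤ 2 ^ 3 := Nat.pow_le_pow_right (by norm_num) this
      _ = 8 := by norm_num
  have hRD : R ≤ dih K K' := le_sup_left.trans hsup.le
  have hR8 : R = dih K K' := by
    refine Subgroup.eq_of_le_of_card_ge hRD ?_
    have hWR : Cfsg.wOf K ≤ R := le_inf hWX hWP
    have hlt : 4 < Nat.card R := by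
      by_contra hc
      have e := Subgroup.eq_of_le_of_card_ge hWR (by rw [card_w p]; exact not_lt.1 hc)
      exact hyW (e.ge ⟨hyX, hy⟩)
    have hdv : Nat.card R ∣ 8 := card_dih p hG ▸ Subgroup.card_dvd_of_le hRD
    rw [card_dih p hG]
    have := Nat.le_of_dvd (by norm_num) hdv
    interval_cases (Nat.card R) <;> simp_all (config := { decide := true })
  rw [hR8] at hRn
  have hdW : d ∈ Subgroup.normalizer (Cfsg.wOf K : Set G) :=
    normalizer_le_normalizer_wOf K (Subgroup.le_normalizer hd)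
  -- so `d` normalises `W_{K'}`
  have hstep : ∀ a ∈ Cfsg.wOf K', d * a * d⁻¹ ∈ Cfsg.wOf K' := by
    intro a ha
    have hmem : d * a * d⁻¹ ∈ dih K K' := hRn.le ⟨a, Subgroup.mem_sup_right ha, rfl⟩
    have hsq : d * a * d⁻¹ * (d * a * d⁻¹) = 1 := by
      rw [show d * a * d⁻¹ * (d * a * d⁻¹) = d * (a * a) * d⁻¹ by group, w_sq p.symm ha, mul_one, mul_inv_cancel]
    rcases invol_mem p hG hmem hsq with h | h
    · have haW : a ∈ Cfsg.wOf K := (Subgroup.mem_normalizer_iff.1 hdW a).2 h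
      obtain ⟨b, hb, hbn⟩ : ∃ b ∈ Cfsg.wOf K', b ∉ Cfsg.wOf K := by
        by_contra hcon
        push Not at hcon
        have := card_inter p hG
        rw [inf_eq_right.2 hcon, card_w p.symm] at this
        omega
      have hbm : d * b * d⁻¹ ∈ dih K K' := hRn.le ⟨b, Subgroup.mem_sup_right hb, rfl⟩
      have hbab : d * (a * b) * d⁻¹ ∈ dih K K' := hRn.le ⟨a * b, Subgroup.mem_sup_right (mul_mem ha hb), rfl⟩
      have hbs : ∀ u ∈ Cfsg.wOf K', d * u * d⁻¹ * (d * u * d⁻¹) = 1 := fun u hu => by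
        rw [show d * u * d⁻¹ * (d * u * d⁻¹) = d * (u * u) * d⁻¹ by group, w_sq p.symm hu, mul_one,
          mul_inv_cancel]
      have h1 := (invol_mem p hG hbm (hbs b hb)).resolve_left fun h' =>
        hbn ((Subgroup.mem_normalizer_iff.1 hdW b).2 h')
      have h2 := (invol_mem p hG hbab (hbs _ (mul_mem ha hb))).resolve_left fun h' => hbn <| by
        have := mul_mem (inv_mem haW) ((Subgroup.mem_normalizer_iff.1 hdW _).2 h')
        rwa [inv_mul_cancel_left] at this
      have := mul_mem h2 (inv_mem h1)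
      rwa [show d * (a * b) * d⁻¹ * (d * b * d⁻¹)⁻¹ = d * a * d⁻¹ by group] at this
    · exact h
  have hdL' : d ∈ L' := by
    rw [← normalizer_w_eq p.symm hG, mem_normalizer_iff_map]
    exact Subgroup.eq_of_le_of_card_ge (by rintro _ ⟨a, ha, rfl⟩; exact hstep a ha)
      (Subgroup.card_map_of_injective (MulAut.conj d).injective).ge
  refine not_le_local p hG ?_
  rw [p.comp_eq_sup hG hd hgen]
  exact sup_le (Subgroup.zpowers_le.2 hdL') (p.left.wOf_le.trans p.right.mem.1.1)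

theorem maximal_local (p : Pair T K L K' L') (hG : ZNHyp G) {H : Subgroup G}
    (hH : H = Subgroup.closure {g : G | Odd (orderOf g)}) :
    Cfsg.IsMaximalTwoLocal ((sfour K K').subgroupOf H) := by
  haveI : Fact (Nat.Prime 2) := ⟨Nat.prime_two⟩
  subst hH
  set H := Subgroup.closure {g : G | Odd (orderOf g)}
  have hWH : Cfsg.wOf K ≤ H := le_sup_left.trans (dih_le_odd p)
  have hN : ∀ P : Subgroup ↥H, (Subgroup.normalizer (P : Set ↥H)).map H.subtype =
      Subgroup.normalizer ((P.map H.subtype : Subgroup G) : Set G) ⊓ H := by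
    intro P
    ext g
    constructor
    · rintro ⟨h, hh, rfl⟩
      refine Subgroup.mem_inf.2 ⟨?_, h.2⟩
      rw [mem_normalizer_iff_map, Subgroup.map_map]
      conv_rhs => rw [← mem_normalizer_iff_map.1 hh, Subgroup.map_map]
      rfl
    · rintro ⟨hg, hgH⟩
      refine ⟨⟨g, hgH⟩, Subgroup.mem_normalizer_iff.2 fun a => ?_, rfl⟩
      have h1 := Subgroup.mem_normalizer_iff.1 hg (a : G)
      have hh : ∀ b : ↥H, (b : G) ∈ P.map H.subtype ↔ b ∈ P := fun b =>
        Subgroup.mem_map_iff_mem H.subtype_injective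
      rw [hh] at h1
      exact h1.trans (hh (⟨g, hgH⟩ * a * ⟨g, hgH⟩⁻¹))
  have hXle : sfour K K' ≤ H := sup_le (K_le_odd p) (dih_le_odd p)
  have hXeq : ((sfour K K').subgroupOf H) = Subgroup.normalizer (((Cfsg.wOf K).subgroupOf H) : Set ↥H) := by
    refine Subgroup.map_injective H.subtype_injective ?_
    rw [hN, Subgroup.map_subgroupOf_eq_of_le hXle, Subgroup.map_subgroupOf_eq_of_le hWH, normalizer_w_eq p hG,
      local_inf_odd p hG]
  have hW2 : IsPGroup 2 (Cfsg.wOf K) := PGroups.elemAb_isPGroup (pre p).wOf_elemAb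
  refine ⟨⟨_, hW2.comap_subtype, fun e => wOf_ne_bot p.left.comp ?_, hXeq⟩, ?_⟩
  · exact (Subgroup.map_subgroupOf_eq_of_le hWH).symm.trans
      ((congrArg (Subgroup.map H.subtype) e).trans (Subgroup.map_bot _))
  rintro N ⟨P, hP, hP1, rfl⟩ hle
  have h1 : sfour K K' ≤ Subgroup.normalizer ((P.map H.subtype : Subgroup G) : Set G) := by
    have := Subgroup.map_mono (f := H.subtype) hle
    rw [hN, Subgroup.map_subgroupOf_eq_of_le hXle] at this
    exact this.trans inf_le_left
  have h2 := eq_w_of_normalized p hG (hP.map _)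
    (fun e => hP1 ((Subgroup.map_eq_bot_iff_of_injective _ H.subtype_injective).1 e)) (Subgroup.map_subtype_le P) h1
  rw [hXeq]
  congr 2
  refine Subgroup.map_injective H.subtype_injective ?_
  rw [h2, Subgroup.map_subgroupOf_eq_of_le hWH]

/-- **The dichotomy for `Z_N`-groups of characteristic 2 type.** -/
theorem dichotomy (hG : ZNHyp G) (hO : Cfsg.pCore 2 G = ⊥) {H : Subgroup G}
    (hH : H = Subgroup.closure {g : G | Odd (orderOf g)}) :
    (∃ K : Subgroup G, Cfsg.IsStronglyEmbedded K) ∨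
      ∃ M₁ M₂ : Subgroup H, M₁ ≠ M₂ ∧ Cfsg.IsMaximalTwoLocal M₁ ∧ Cfsg.IsMaximalTwoLocal M₂ ∧
        Nonempty (M₁ ≃* Equiv.Perm (Fin 4)) ∧ Nonempty (M₂ ≃* Equiv.Perm (Fin 4)) ∧
        Nat.card ↥(M₁ ⊓ M₂) = 8 := by
  haveI : Fact (Nat.Prime 2) := ⟨Nat.prime_two⟩
  let S : Sylow 2 G := default
  have hS : (S : Subgroup G) ≠ ⊥ := S.ne_bot_of_dvd_card (even_iff_two_dvd.1 hG.char2.1)
  have hJ : IsPGroup 2 (jT (S : Subgroup G)) := S.isPGroup'.to_le (PGroups.thompsonSubgroupOf_le 2 _)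
  obtain ⟨M, hM, hle⟩ := exists_maximal_ge (isTwoLocal_normalizer hJ (jT_ne_bot S.isPGroup' hS))
  have F : Frame G M := ⟨hG, hO, hM.1, ⟨S, hle⟩⟩
  rcases Set.eq_empty_or_nonempty (Cfsg.straddlingTwoSubgroups M) with he | hne
  · exact Or.inl ⟨M, (F.stronglyEmbedded_iff).2 he⟩
  obtain ⟨T1, hT1, ha⟩ := Set.exists_max_image _ (fun X => Cfsg.maxElemAbelianOrder X) (Set.toFinite _) hne
  obtain ⟨T2, ⟨hT2, e2⟩, hb⟩ := Set.exists_max_image
    {X ∈ Cfsg.straddlingTwoSubgroups M | Cfsg.maxElemAbelianOrder X = Cfsg.maxElemAbelianOrder T1}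
    (fun X => Nat.card (Cfsg.thompsonSubgroupOf 2 X)) (Set.toFinite _) ⟨T1, hT1, rfl⟩
  obtain ⟨T, ⟨hT, e3, e4⟩, hc⟩ := Set.exists_max_image
    {X ∈ Cfsg.straddlingTwoSubgroups M | Cfsg.maxElemAbelianOrder X = Cfsg.maxElemAbelianOrder T1 ∧
      Nat.card (Cfsg.thompsonSubgroupOf 2 X) = Nat.card (Cfsg.thompsonSubgroupOf 2 T2)}
    (fun X => Nat.card X) (Set.toFinite _) ⟨T2, hT2, e2, rfl⟩
  have hmax : T ∈ Cfsg.maxStraddlingTwoSubgroups M := by
    refine ⟨hT, fun X hX => ⟨(ha X hX).trans e3.ge, fun h => ⟨(hb X ⟨hX, h.trans e3⟩).trans e4.ge,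
      fun h' => hc X ⟨hX, h.trans e3, h'.trans e4⟩⟩⟩⟩
  obtain ⟨K, L, K', L', p⟩ := F.exists_pair hmax
  refine Or.inr ⟨(sfour K K').subgroupOf H, (sfour K' K).subgroupOf H, ?_, maximal_local p hG hH,
    maximal_local p.symm hG hH, ?_⟩
  all_goals subst hH
  · intro e
    exact sfour_ne p hG ((Subgroup.map_subgroupOf_eq_of_le
      (sup_le (K_le_odd p) (dih_le_odd p) : sfour K K' ≤ _)).symm.trans ((congrArg (Subgroup.map _) e).trans
      (Subgroup.map_subgroupOf_eq_of_le (sup_le (K_le_odd p.symm) (dih_le_odd p.symm) : sfour K' K ≤ _))))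
  have hle1 : sfour K K' ≤ Subgroup.closure {g : G | Odd (orderOf g)} := sup_le (K_le_odd p) (dih_le_odd p)
  have hle2 : sfour K' K ≤ Subgroup.closure {g : G | Odd (orderOf g)} :=
    sup_le (K_le_odd p.symm) (dih_le_odd p.symm)
  refine ⟨(sfour_iso p hG).map fun e => (Subgroup.subgroupOfEquivOfLe hle1).trans e,
    (sfour_iso p.symm hG).map fun e => (Subgroup.subgroupOfEquivOfLe hle2).trans e, ?_⟩
  rw [← Subgroup.card_map_of_injective (Subgroup.subtype_injective _), Subgroup.map_inf _ _ _ (Subgroup.subtype_injective _),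
    Subgroup.map_subgroupOf_eq_of_le hle1, Subgroup.map_subgroupOf_eq_of_le hle2]
  exact card_inf_sfour p hG

end Cfsg.Agent.Lib.ZNPair18
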