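import Cfsg.Agent.Lib.LAEven56.JComp.Final

/-!
# Two `J(T)`-components over the same `T`: the dihedral subgroup and the two copies of `Sym(4)`

`D = W_K ⊔ W_{K'}` is dihedral of order `8` and `K ⊔ D` is a copy of `Sym(4)` generated by
elements of odd order together with the four-group of the other component.

Owner: helper18.
-/

set_option autoImplicit false
set_option linter.style.haveILetI false
set_option linter.unusedSectionVars false

open scoped commutatorElement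

namespace Cfsg.Agent.Lib.ZNPair18

open Cfsg.Agent.Lib
open LAEven56.JComp

variable {G : Type*} [Group G] [Finite G] {T K L K' L' : Subgroup G}

/-- The dihedral subgroup of a pair. -/
def dih (K K' : Subgroup G) : Subgroup G := Cfsg.wOf K ⊔ Cfsg.wOf K'

omit [Finite G] in
theorem dih_comm (K K' : Subgroup G) : dih K K' = dih K' K := sup_comm _ _

theorem pre (p : Pair T K L K' L') : PreComp T K := preComp_of p.left.two p.left.comp

theorem card_w (p : Pair T K L K' L') : Nat.card (Cfsg.wOf K) = 4 := p.left.comp.2.2.2.2.1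

theorem w_sq (p : Pair T K L K' L') {w : G} (hw : w ∈ Cfsg.wOf K) : w * w = 1 :=
  p.left.comp.2.2.2.2.2 w hw

theorem T_le_normalizer_w (p : Pair T K L K' L') (hG : ZNHyp G) :
    T ≤ Subgroup.normalizer (Cfsg.wOf K : Set G) :=
  (p.le_normalizer hG).trans (normalizer_le_normalizer_wOf K)

theorem w_le_normalizer (p : Pair T K L K' L') (hG : ZNHyp G) :
    Cfsg.wOf K' ≤ Subgroup.normalizer (Cfsg.wOf K : Set G) :=
  p.right.wOf_le.trans (T_le_normalizer_w p hG)

theorem w_le_core (p : Pair T K L K' L') (hG : ZNHyp G) : Cfsg.wOf K ≤ Cfsg.pCoreOf 2 L :=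
  (p.wOf_le_vC hG).trans (PLocal.omegaCenterOf_le _)

theorem dih_le (p : Pair T K L K' L') : dih K K' ≤ T := sup_le p.left.wOf_le p.right.wOf_le

theorem card_cK_cases (p : Pair T K L K' L') :
    Nat.card (cK T K) = 1 ∨ Nat.card (cK T K) = 2 := by
  have := p.card_cK_le
  have := Nat.card_pos (α := cK T K)
  omega

theorem card_dih_mul (p : Pair T K L K' L') (hG : ZNHyp G) :
    Nat.card (dih K K') * Nat.card (Cfsg.wOf K ⊓ Cfsg.wOf K' : Subgroup G) = 16 := by
  rw [dih, PLocal.card_sup_mul_card_inf (w_le_normalizer p.symm hG), card_w p, card_w p.symm]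

theorem not_commute (p : Pair T K L K' L') (hG : ZNHyp G) :
    ¬ Cfsg.wOf K' ≤ Subgroup.centralizer (Cfsg.wOf K : Set G) := by
  intro h
  have h' : Cfsg.wOf K ≤ Subgroup.centralizer (Cfsg.wOf K' : Set G) := Subgroup.le_centralizer_iff.1 h
  have h1 : dih K K' ≤ Cfsg.pCoreOf 2 L := by
    refine sup_le (w_le_core p hG) ?_
    rw [← p.inf_centralizer_eq hG]
    exact le_inf p.right.wOf_le h
  have h2 : dih K K' ≤ Cfsg.pCoreOf 2 L' := by
    refine sup_le ?_ (w_le_core p.symm hG)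
    rw [← p.symm.inf_centralizer_eq hG]
    exact le_inf p.left.wOf_le h'
  have hne : Cfsg.wOf K ≠ Cfsg.wOf K' := fun e =>
    wOf_ne_bot p.left.comp <| p.eq_of_le_normalizer (p.left.two.to_le p.left.wOf_le)
      ((p.local_le_normalizer hG).trans (normalizer_le_normalizer_wOf K))
      (e ▸ (p.symm.local_le_normalizer hG).trans (normalizer_le_normalizer_wOf K'))
  have hlt : Nat.card (Cfsg.wOf K ⊓ Cfsg.wOf K' : Subgroup G) < 4 := by
    by_contra hc
    have e1 := Subgroup.eq_of_le_of_card_ge (inf_le_left : Cfsg.wOf K ⊓ Cfsg.wOf K' ≤ Cfsg.wOf K)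
      (by rw [card_w p]; omega)
    have e2 := Subgroup.eq_of_le_of_card_ge (inf_le_right : Cfsg.wOf K ⊓ Cfsg.wOf K' ≤ Cfsg.wOf K')
      (by rw [card_w p.symm]; omega)
    exact hne (e1.symm.trans e2)
  have hcd : 8 ≤ Nat.card (dih K K') := by
    have := card_dih_mul p hG
    have hd : Nat.card (Cfsg.wOf K ⊓ Cfsg.wOf K' : Subgroup G) ∣ 4 :=
      card_w p ▸ Subgroup.card_dvd_of_le inf_le_left
    have hle : Nat.card (Cfsg.wOf K ⊓ Cfsg.wOf K' : Subgroup G) ≤ 2 := by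
      interval_cases (Nat.card (Cfsg.wOf K ⊓ Cfsg.wOf K' : Subgroup G)) <;> simp_all
    nlinarith
  have hc1 := p.card_core hG
  have hc2 := p.symm.card_core hG
  have := p.card_cK_le
  have := p.symm.card_cK_le
  have e1 := Subgroup.eq_of_le_of_card_ge h1 (by omega)
  have e2 := Subgroup.eq_of_le_of_card_ge h2 (by omega)
  have hbot : dih K K' = ⊥ := p.eq_of_le_normalizer (p.left.two.to_le (dih_le p))
    (e1 ▸ CharP.le_normalizer_pCoreOf 2 L) (e2 ▸ CharP.le_normalizer_pCoreOf 2 L')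
  rw [hbot, Subgroup.card_bot] at hcd
  omega

theorem card_inter (p : Pair T K L K' L') (hG : ZNHyp G) :
    Nat.card (Cfsg.wOf K ⊓ Cfsg.wOf K' : Subgroup G) = 2 := by
  have hd : Nat.card (Cfsg.wOf K ⊓ Cfsg.wOf K' : Subgroup G) ∣ 4 :=
    card_w p ▸ Subgroup.card_dvd_of_le inf_le_left
  have hne1 : Nat.card (Cfsg.wOf K ⊓ Cfsg.wOf K' : Subgroup G) ≠ 1 := fun e => by
    have hbot := Subgroup.card_eq_one.1 e
    refine not_commute p hG (Subgroup.commutator_eq_bot_iff_le_centralizer.1 (le_bot_iff.1 ?_))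
    rw [← hbot]
    refine le_inf ?_ ?_
    · exact Subgroup.le_normalizer_iff_commutator_le_right.1 (w_le_normalizer p hG)
    · exact Subgroup.le_normalizer_iff_commutator_le_left.1 (w_le_normalizer p.symm hG)
  have hne4 : Nat.card (Cfsg.wOf K ⊓ Cfsg.wOf K' : Subgroup G) ≠ 4 := fun e => by
    have e1 := Subgroup.eq_of_le_of_card_ge (inf_le_left : Cfsg.wOf K ⊓ Cfsg.wOf K' ≤ Cfsg.wOf K)
      (by rw [card_w p, e])
    refine not_commute p hG fun x hx => Subgroup.mem_centralizer_iff.2 fun y hy => ?_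
    have hy' : y ∈ Cfsg.wOf K' := (e1.ge.trans inf_le_right) hy
    exact (PGroups.elemAb_comm (pre p.symm).wOf_elemAb hx hy').symm
  have h4 := Nat.le_of_dvd (by norm_num) hd
  have := Nat.pos_of_dvd_of_pos hd (by norm_num)
  interval_cases (Nat.card (Cfsg.wOf K ⊓ Cfsg.wOf K' : Subgroup G)) <;> simp_all

theorem card_dih (p : Pair T K L K' L') (hG : ZNHyp G) : Nat.card (dih K K') = 8 := by
  have := card_dih_mul p hG
  rw [card_inter p hG] at this
  omega

theorem exists_z (p : Pair T K L K' L') (hG : ZNHyp G) :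
    ∃ z, z ∈ Cfsg.wOf K ∧ z ∈ Cfsg.wOf K' ∧ z ≠ 1 ∧
      ∀ x ∈ Cfsg.wOf K, x ∈ Cfsg.wOf K' → x = 1 ∨ x = z := by
  obtain ⟨z, hz, hz1⟩ := (Subgroup.bot_or_exists_ne_one (Cfsg.wOf K ⊓ Cfsg.wOf K')).resolve_left
    fun e => by
      have := card_inter p hG
      rw [e, Subgroup.card_bot] at this
      omega
  exact ⟨z, hz.1, hz.2, hz1, fun x hx hx' =>
    eq_one_or_eq_of_card_two (card_inter p hG).le hz hz1 ⟨hx, hx'⟩⟩

theorem dih_eq_union (p : Pair T K L K' L') (hG : ZNHyp G) {d : G} (hd : d ∈ dih K K') :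
    ∃ w ∈ Cfsg.wOf K, ∃ w' ∈ Cfsg.wOf K', w * w' = d := by
  have hd' : d ∈ ((Cfsg.wOf K ⊔ Cfsg.wOf K' : Subgroup G) : Set G) := hd
  rw [Subgroup.coe_mul_of_left_le_normalizer_right _ _ (w_le_normalizer p.symm hG)] at hd'
  exact hd'

theorem mem_centralizer_iff_w (p : Pair T K L K' L') (hG : ZNHyp G) {x : G} (hx : x ∈ dih K K') :
    x ∈ Subgroup.centralizer (Cfsg.wOf K : Set G) ↔ x ∈ Cfsg.wOf K := by
  have hle : Cfsg.wOf K ≤ dih K K' ⊓ Subgroup.centralizer (Cfsg.wOf K : Set G) :=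
    le_inf le_sup_left fun a ha => Subgroup.mem_centralizer_iff.2 fun b hb =>
      PGroups.elemAb_comm (pre p).wOf_elemAb hb ha
  have hd : Nat.card (dih K K' ⊓ Subgroup.centralizer (Cfsg.wOf K : Set G) : Subgroup G) ∣ 8 :=
    card_dih p hG ▸ Subgroup.card_dvd_of_le inf_le_left
  have h4 : 4 ≤ Nat.card (dih K K' ⊓ Subgroup.centralizer (Cfsg.wOf K : Set G) : Subgroup G) :=
    card_w p ▸ Subgroup.card_le_of_le hle
  have h8 : Nat.card (dih K K' ⊓ Subgroup.centralizer (Cfsg.wOf K : Set G) : Subgroup G) ≠ 8 := by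
    intro e
    have e1 := Subgroup.eq_of_le_of_card_ge
      (inf_le_left : dih K K' ⊓ Subgroup.centralizer (Cfsg.wOf K : Set G) ≤ dih K K')
      (by rw [card_dih p hG, e])
    exact not_commute p hG (le_sup_right.trans (e1.ge.trans inf_le_right))
  have hle8 := Nat.le_of_dvd (by norm_num) hd
  have e4 : Nat.card (dih K K' ⊓ Subgroup.centralizer (Cfsg.wOf K : Set G) : Subgroup G) = 4 := by
    interval_cases (Nat.card (dih K K' ⊓ Subgroup.centralizer (Cfsg.wOf K : Set G) : Subgroup G)) <;>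
      simp_all
  have e : Cfsg.wOf K = dih K K' ⊓ Subgroup.centralizer (Cfsg.wOf K : Set G) :=
    Subgroup.eq_of_le_of_card_ge hle (by rw [e4, card_w p])
  exact ⟨fun h => e ▸ (Subgroup.mem_inf.2 ⟨hx, h⟩), fun h => ((hle h) : _ ∧ _).2⟩

theorem four_eq (p : Pair T K L K' L') {v u x : G} (hv : v ∈ Cfsg.wOf K) (hv1 : v ≠ 1)
    (hu : u ∈ Cfsg.wOf K) (hu1 : u ≠ 1) (huv : u ≠ v) (hx : x ∈ Cfsg.wOf K) :
    x = 1 ∨ x = v ∨ x = u ∨ x = u * v :=
  four_cases (card_w p) hv hv1 (w_sq p hv) hu hu1 huv hx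

theorem not_commute_of_notMem (p : Pair T K L K' L') (hG : ZNHyp G) {w w' : G} (hw : w ∈ Cfsg.wOf K)
    (hw' : w' ∈ Cfsg.wOf K') (hwn : w ∉ Cfsg.wOf K') (hwn' : w' ∉ Cfsg.wOf K) : w * w' ≠ w' * w := by
  intro h
  obtain ⟨z, hz, hz', hz1, -⟩ := exists_z p hG
  refine hwn' ((mem_centralizer_iff_w p hG (Subgroup.mem_sup_right hw')).1 ?_)
  refine Subgroup.mem_centralizer_iff.2 fun x hx => ?_
  have hzw : z * w' = w' * z := PGroups.elemAb_comm (pre p.symm).wOf_elemAb hz' hw'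
  rcases four_eq p hz hz1 hw (fun e => hwn (e ▸ one_mem _)) (fun e => hwn (e ▸ hz')) hx with
    rfl | rfl | rfl | rfl
  · simp
  · exact hzw
  · exact h
  · rw [mul_assoc, hzw, ← mul_assoc, h, mul_assoc]

theorem invol_mem (p : Pair T K L K' L') (hG : ZNHyp G) {d : G} (hd : d ∈ dih K K') (hd2 : d * d = 1) :
    d ∈ Cfsg.wOf K ∨ d ∈ Cfsg.wOf K' := by
  obtain ⟨w, hw, w', hw', rfl⟩ := dih_eq_union p hG hd
  by_cases h1 : w ∈ Cfsg.wOf K'
  · exact Or.inr (mul_mem h1 hw')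
  by_cases h2 : w' ∈ Cfsg.wOf K
  · exact Or.inl (mul_mem hw h2)
  refine absurd ?_ (not_commute_of_notMem p hG hw hw' h1 h2)
  calc w * w' = (w * w')⁻¹ := (inv_eq_of_mul_eq_one_right hd2).symm
    _ = w'⁻¹ * w⁻¹ := mul_inv_rev _ _
    _ = w' * w := by
      rw [inv_eq_of_mul_eq_one_right (w_sq p.symm hw'), inv_eq_of_mul_eq_one_right (w_sq p hw)]

/-- An element swapping the two four-groups and fixing their meet does not bring `d` to `d z`. -/
theorem mul_swap_ne (p : Pair T K L K' L') (hG : ZNHyp G) {z y d : G} (hz : z ∈ Cfsg.wOf K)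
    (hz' : z ∈ Cfsg.wOf K') (hz1 : z ≠ 1) (hy2 : y * y = 1)
    (hy : ∀ w ∈ Cfsg.wOf K, y * w * y⁻¹ ∈ Cfsg.wOf K')
    (hy' : ∀ w ∈ Cfsg.wOf K', y * w * y⁻¹ ∈ Cfsg.wOf K) (hd : d ∈ dih K K') :
    d * (y * d * y⁻¹) ≠ z := by
  have hyi : y⁻¹ = y := inv_eq_of_mul_eq_one_right hy2
  have hbb : ∀ w, y * (y * w * y⁻¹) * y⁻¹ = w := fun w => by
    rw [hyi, show y * (y * w * y) * y = (y * y) * w * (y * y) by group, hy2, one_mul, mul_one]
  have honly : ∀ x ∈ Cfsg.wOf K, x ∈ Cfsg.wOf K' → x = 1 ∨ x = z := fun x hx hx' =>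
    eq_one_or_eq_of_card_two (card_inter p hG).le ⟨hz, hz'⟩ hz1 ⟨hx, hx'⟩
  have hyz : y * z * y⁻¹ = z :=
    (honly _ (hy' z hz') (hy z hz)).resolve_left fun e => hz1 (conj_eq_one_iff.1 e)
  have hsmall : ∀ x, x = 1 ∨ x = z → x * (y * x * y⁻¹) ≠ z := by
    rintro x (rfl | rfl)
    · simpa using hz1.symm
    · rw [hyz, w_sq p hz]; exact hz1.symm
  intro h
  obtain ⟨w, hw, w', hw', rfl⟩ := dih_eq_union p hG hd
  have hsolve : ∀ x : G, x * x = 1 → x * (y * x * y⁻¹) = z → y * x * y⁻¹ = x * z := fun x hx he => by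
    rw [← he, ← mul_assoc, hx, one_mul]
  by_cases h1 : w ∈ Cfsg.wOf K'
  · have hd' : w * w' ∈ Cfsg.wOf K' := mul_mem h1 hw'
    have he := hsolve _ (w_sq p.symm hd') h
    have hin : y * (w * w') * y⁻¹ ∈ Cfsg.wOf K' := he ▸ mul_mem hd' hz'
    have h2 := hy _ (hy' _ hd')
    rw [hbb] at h2
    have h3 := honly _ (hy' _ hd') hin
    have h4 : w * w' ∈ Cfsg.wOf K := by
      have := hy' _ hin
      rwa [hbb] at this
    exact hsmall _ (honly _ h4 hd') h
  by_cases h2 : w' ∈ Cfsg.wOf K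
  · have hd' : w * w' ∈ Cfsg.wOf K := mul_mem hw h2
    have he := hsolve _ (w_sq p hd') h
    have hin : y * (w * w') * y⁻¹ ∈ Cfsg.wOf K := he ▸ mul_mem hd' hz
    have h4 : w * w' ∈ Cfsg.wOf K' := by
      have := hy _ hin
      rwa [hbb] at this
    exact hsmall _ (honly _ hd' h4) h
  obtain ⟨i, hi, hi', hwi⟩ : ∃ i, (i = 1 ∨ i = z) ∧ i ∈ Cfsg.wOf K' ∧ y * w' * y⁻¹ = w * i := by
    rcases four_eq p hz hz1 hw (fun e => h1 (e ▸ one_mem _)) (fun e => h1 (e ▸ hz')) (hy' w' hw') with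
      e | e | e | e
    · exact absurd (conj_eq_one_iff.1 e) fun e' => h2 (e' ▸ one_mem _)
    · exfalso
      have : w' = z := by rw [← hbb w', e, hyz]
      exact h2 (this ▸ hz)
    · exact ⟨1, Or.inl rfl, one_mem _, by rw [e, mul_one]⟩
    · exact ⟨z, Or.inr rfl, hz', e⟩
  have hyi1 : y * i * y⁻¹ = i := by rcases hi with rfl | rfl <;> simp [hyz]
  have hi2 : i * i = 1 := w_sq p.symm hi'
  have hv : y * w * y⁻¹ = w' * i := by
    calc y * w * y⁻¹ = y * (w * i) * y⁻¹ * (y * i * y⁻¹) := by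
          rw [show y * (w * i) * y⁻¹ * (y * i * y⁻¹) = y * w * (i * i) * y⁻¹ by group, hi2, mul_one]
      _ = w' * i := by rw [← hwi, hbb, hyi1]
  have hwi' : i * w = w * i := PGroups.elemAb_comm (pre p).wOf_elemAb
    (by rcases hi with rfl | rfl <;> [exact one_mem _; exact hz]) hw
  apply hz1.symm
  calc (1 : G) = w * w' * (w' * i * (w * i)) := by
        rw [show w * w' * (w' * i * (w * i)) = w * (w' * w') * (i * w) * i by group,
          w_sq p.symm hw', mul_one, hwi', show w * (w * i) * i = (w * w) * (i * i) by group, w_sq p hw, hi2,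
          mul_one]
    _ = w * w' * (y * (w * w') * y⁻¹) := by
        rw [← hwi, ← hv, show y * w * y⁻¹ * (y * w' * y⁻¹) = y * (w * w') * y⁻¹ by group]
    _ = z := h

/-- `K ⊔ D`. -/
def sfour (K K' : Subgroup G) : Subgroup G := K ⊔ dih K K'

theorem sfour_eq (p : Pair T K L K' L') : sfour K K' = K ⊔ Cfsg.wOf K' := by
  have h : Cfsg.wOf K ≤ K := (pre p).wOf_le_omega.trans ((PLocal.omegaCenterOf_le _).trans PreComp.core_le)
  rw [sfour, dih, ← sup_assoc, sup_eq_left.2 h]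

theorem sfour_le (p : Pair T K L K' L') : sfour K K' ≤ L :=
  sup_le p.left.le ((dih_le p).trans p.left.mem.1.1)

theorem card_sfour (p : Pair T K L K' L') (hG : ZNHyp G) : Nat.card (sfour K K') = 24 := by
  have hn : Cfsg.wOf K' ≤ Subgroup.normalizer (K : Set G) := p.right.wOf_le.trans (p.le_normalizer hG)
  have h := PLocal.card_sup_mul_card_inf hn
  have hinf : Cfsg.wOf K' ⊓ K = Cfsg.wOf K ⊓ Cfsg.wOf K' := by
    refine le_antisymm (fun x hx => ⟨p.comp_inf_T hG ▸ ⟨hx.2, p.right.wOf_le hx.1⟩, hx.1⟩) ?_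
    exact le_inf inf_le_right (inf_le_left.trans
      ((pre p).wOf_le_omega.trans ((PLocal.omegaCenterOf_le _).trans PreComp.core_le)))
  rw [hinf, card_inter p hG, p.card_comp hG, card_w p.symm, sup_comm, ← sfour_eq p] at h
  omega

theorem sfour_inf_T (p : Pair T K L K' L') (hG : ZNHyp G) : sfour K K' ⊓ T = dih K K' := by
  haveI : Fact (Nat.Prime 2) := ⟨Nat.prime_two⟩
  refine (Subgroup.eq_of_le_of_card_ge (le_inf (le_sup_right : dih K K' ≤ sfour K K') (dih_le p)) ?_).symm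
  obtain ⟨n, hn⟩ := IsPGroup.iff_card.1 (p.left.two.to_le (inf_le_right : sfour K K' ⊓ T ≤ T))
  have hd : Nat.card (sfour K K' ⊓ T : Subgroup G) ∣ 24 :=
    card_sfour p hG ▸ Subgroup.card_dvd_of_le inf_le_left
  rw [hn] at hd
  change Nat.card (sfour K K' ⊓ T : Subgroup G) ≤ Nat.card (dih K K')
  rw [hn, card_dih p hG]
  have : n ≤ 3 := by
    by_contra hc
    have : 16 ∣ 24 := (Nat.pow_dvd_pow 2 (show 4 ≤ n by omega)).trans hd
    omega
  calc 2 ^ n ≤ 2 ^ 3 := Nat.pow_le_pow_right (by norm_num) this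
    _ = 8 := by norm_num

theorem sfour_iso (p : Pair T K L K' L') (hG : ZNHyp G) :
    Nonempty (↥(sfour K K') ≃* Equiv.Perm (Fin 4)) := by
  refine iso_perm_four (W := Cfsg.wOf K) (le_sup_of_le_right le_sup_left)
    ((sfour_le p).trans ((p.local_le_normalizer hG).trans (normalizer_le_normalizer_wOf K)))
    (pre p).wOf_elemAb (card_w p) (card_sfour p hG) ?_
  rintro x ⟨hx, hxC⟩
  have hxT : x ∈ T := LocalData.core_le_T p.left.mem (p.inf_centralizer_wOf_le hG ⟨sfour_le p hx, hxC⟩)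
  exact (mem_centralizer_iff_w p hG (sfour_inf_T p hG ▸ ⟨hx, hxT⟩)).1 hxC

/-- The elements moved by `d` give all of `W_K`. -/
theorem eq_top_of_invariant (p : Pair T K L K' L') {X : Subgroup G} {d x : G} (hd : d ∈ K) (hd3 : d ^ 3 = 1)
    (hgen : Cfsg.pCoreOf 2 K ⊔ Subgroup.zpowers d = K) (hdX : ∀ a ∈ X, d * a * d⁻¹ ∈ X) (hxX : x ∈ X)
    (hx : x ∈ Cfsg.wOf K) (hx1 : x ≠ 1) : Cfsg.wOf K ≤ X := by
  have hdN : d ∈ Subgroup.normalizer (Cfsg.wOf K : Set G) :=
    normalizer_le_normalizer_wOf K (Subgroup.le_normalizer hd)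
  have hx' : d * x * d⁻¹ ∈ Cfsg.wOf K := (Subgroup.mem_normalizer_iff.1 hdN x).1 hx
  have hne : d * x * d⁻¹ ≠ x := fun e =>
    hx1 ((pre p).no_fixed hd hd3 hgen x hx (mul_inv_eq_iff_eq_mul.1 e))
  intro w hw
  rcases four_eq p hx hx1 hx' (fun e => hx1 (conj_eq_one_iff.1 e)) hne hw with rfl | rfl | rfl | rfl
  · exact one_mem _
  · exact hxX
  · exact hdX x hxX
  · exact mul_mem (hdX x hxX) hxX

theorem K_le_odd (p : Pair T K L K' L') : K ≤ Subgroup.closure {g : G | Odd (orderOf g)} :=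
  p.left.comp.1.ge.trans (Subgroup.closure_mono fun _ hg => hg.2)

theorem dih_le_odd (p : Pair T K L K' L') :
    dih K K' ≤ Subgroup.closure {g : G | Odd (orderOf g)} :=
  sup_le (((pre p).wOf_le_omega.trans ((PLocal.omegaCenterOf_le _).trans PreComp.core_le)).trans (K_le_odd p))
    (((pre p.symm).wOf_le_omega.trans ((PLocal.omegaCenterOf_le _).trans PreComp.core_le)).trans
      (K_le_odd p.symm))

end Cfsg.Agent.Lib.ZNPair18
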