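import Cfsg.Agent.Lib.ZNPair18.Fusion

/-!
# Transfer of the central involution of a pair

Owner: helper18.
-/

set_option autoImplicit false
set_option linter.style.haveILetI false
set_option linter.unusedSectionVars false

open scoped commutatorElement

namespace Cfsg.Agent.Lib.ZNPair18

open Cfsg.Agent.Lib
open LAEven56.JComp

variable {G : Type*} [Group G] [Finite G] {T K L K' L' : Subgroup G}

/-- Transfer criterion: `c` is not generated by elements of odd order if a normal subgroup of `S`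
with abelian quotient misses `c` and all conjugates of `c` in `S` lie in its coset at `c`. -/
theorem notMem_odd_of_transfer (S : Sylow 2 G) (U : Subgroup (S : Subgroup G)) [U.Normal]
    (hcomm : ∀ a b : ↥(S : Subgroup G) ⧸ U, a * b = b * a) {c : G} (hcS : c ∈ (S : Subgroup G))
    (hc2 : c * c = 1) (hcU : (⟨c, hcS⟩ : ↥(S : Subgroup G)) ∉ U)
    (hconj : ∀ (a : G) (h : a * c * a⁻¹ ∈ (S : Subgroup G)),
      (⟨a * c * a⁻¹, h⟩ : ↥(S : Subgroup G)) * ⟨c, hcS⟩ ∈ U) :
    c ∉ Subgroup.closure {g : G | Odd (orderOf g)} := by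
  haveI : Fact (Nat.Prime 2) := ⟨Nat.prime_two⟩
  letI : CommGroup (↥(S : Subgroup G) ⧸ U) := { (inferInstance : Group _) with mul_comm := hcomm }
  set φ : ↥(S : Subgroup G) →* ↥(S : Subgroup G) ⧸ U := QuotientGroup.mk' U with hφ
  have hφc2 : φ ⟨c, hcS⟩ * φ ⟨c, hcS⟩ = 1 := by
    rw [← map_mul]
    exact (congrArg φ (Subtype.ext hc2 : (⟨c, hcS⟩ : ↥(S : Subgroup G)) * ⟨c, hcS⟩ = 1)).trans (map_one φ)
  have htr : MonoidHom.transfer φ c = φ ⟨c, hcS⟩ ^ (S : Subgroup G).index := by
    refine Fusion.Thompson.transfer_controlled φ c hcS fun m a h => ?_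
    rcases Nat.even_or_odd' m with ⟨k, rfl | rfl⟩
    · have e : c ^ (2 * k) = 1 := by rw [pow_mul, pow_two, hc2, one_pow]
      rw [show (⟨a * c ^ (2 * k) * a⁻¹, h⟩ : ↥(S : Subgroup G)) = 1 from Subtype.ext (by simp [e]),
        map_one, pow_mul, pow_two, hφc2, one_pow]
    · have e : c ^ (2 * k + 1) = c := by rw [pow_succ, pow_mul, pow_two, hc2, one_pow, one_mul]
      have h' : a * c * a⁻¹ ∈ (S : Subgroup G) := by rwa [e] at h
      rw [show (⟨a * c ^ (2 * k + 1) * a⁻¹, h⟩ : ↥(S : Subgroup G)) = ⟨a * c * a⁻¹, h'⟩ from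
          Subtype.ext (by simp [e]), pow_succ, pow_mul, pow_two, hφc2, one_pow, one_mul]
      have h1 : φ (⟨a * c * a⁻¹, h'⟩ * ⟨c, hcS⟩) = 1 := (QuotientGroup.eq_one_iff _).2 (hconj a h')
      rw [map_mul] at h1
      exact mul_right_cancel (h1.trans hφc2.symm)
  intro hmem
  have hker : Subgroup.closure {g : G | Odd (orderOf g)} ≤ (MonoidHom.transfer φ).ker := by
    refine (Subgroup.closure_le _).2 fun g hg => MonoidHom.mem_ker.2 ?_
    obtain ⟨k, hk⟩ := (S.isPGroup'.to_quotient U) (MonoidHom.transfer φ g)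
    have h1 : orderOf (MonoidHom.transfer φ g) ∣ orderOf g := orderOf_map_dvd _ g
    have h2 : orderOf (MonoidHom.transfer φ g) ∣ 2 ^ k := orderOf_dvd_of_pow_eq_one hk
    exact orderOf_eq_one_iff.1 (Nat.eq_one_of_dvd_coprimes
      ((Nat.coprime_two_right.2 hg).pow_right k) h1 h2)
  have h0 := MonoidHom.mem_ker.1 (hker hmem)
  rw [htr] at h0
  obtain ⟨k, hk⟩ := Nat.odd_iff.2 (Nat.two_dvd_ne_zero.1 S.not_dvd_index)
  rw [hk, pow_succ, pow_mul, pow_two, hφc2, one_pow, one_mul] at h0
  exact hcU ((QuotientGroup.eq_one_iff _).1 h0)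

theorem commutative_of_card {Q : Type*} [Group Q] (h : Nat.card Q = 2 ∨ Nat.card Q = 4) (a b : Q) :
    a * b = b * a := by
  rcases h with h | h
  · haveI : Fact (Nat.Prime 2) := ⟨Nat.prime_two⟩
    haveI := isCyclic_of_prime_card h
    exact IsCyclic.commGroup.mul_comm a b
  · haveI : Fact (Nat.Prime 2) := ⟨Nat.prime_two⟩
    exact IsPGroup.isMulCommutative_of_card_eq_prime_sq (p := 2) (by rw [h]; norm_num) |>.is_comm.comm a b

/-- **The central involution of a component is not generated by elements of odd order.** -/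
theorem cK_notMem_odd (p : Pair T K L K' L') (hG : ZNHyp G) {c : G} (hc : c ∈ cK T K) (hc1 : c ≠ 1) :
    c ∉ Subgroup.closure {g : G | Odd (orderOf g)} := by
  haveI : Fact (Nat.Prime 2) := ⟨Nat.prime_two⟩
  obtain ⟨S, hTS⟩ := p.left.two.exists_le_sylow
  have hSN := sylow_le_normalizer p hG hc hc1 S hTS
  have hDS : dih K K' ≤ (S : Subgroup G) := (dih_le p).trans hTS
  have hcS : c ∈ (S : Subgroup G) := hTS (c_mem_T p hG hc hc1)
  have hT16 := card_T_two p hG hc hc1
  -- `D` is normal in `S`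
  have hDn : (S : Subgroup G) ≤ Subgroup.normalizer (dih K K' : Set G) := by
    intro y hy
    by_cases hyT : y ∈ T
    · have h1 := T_le_normalizer_w p hG hyT
      have h2 := T_le_normalizer_w p.symm hG hyT
      rw [mem_normalizer_iff_map, dih, Subgroup.map_sup, mem_normalizer_iff_map.1 h1,
        mem_normalizer_iff_map.1 h2]
    · obtain ⟨hKf, h1⟩ := swap p hG hc hc1 S.isPGroup' hy (hSN hy) hyT
      obtain ⟨c', hc', hc'1⟩ := exists_c p.symm (p.card_cK_eq hG ▸ card_cK_two p hG hc hc1)
      obtain ⟨-, h2⟩ := swap p.symm hG hc' hc'1 S.isPGroup' hy (hSN hy) hyT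
      rw [mem_normalizer_iff_map]
      refine Subgroup.eq_of_le_of_card_ge ?_ (Subgroup.card_map_of_injective (MulAut.conj y).injective).ge
      rw [dih, Subgroup.map_sup]
      exact sup_le (fun x ⟨w, hw, e⟩ => e ▸ Subgroup.mem_sup_right (h1 w hw))
        (fun x ⟨w, hw, e⟩ => e ▸ Subgroup.mem_sup_left (h2 w hw))
  haveI hDn' : ((dih K K').subgroupOf (S : Subgroup G)).Normal :=
    Subgroup.normal_subgroupOf_of_le_normalizer hDn
  have hTidx : Nat.card (S : Subgroup G) ≤ 32 := by
    have h := card_le_two_mul_inf (A := (S : Subgroup G)) (H := T) fun x hx hxT u hu huT => by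
      refine p.left.mem_T S.isPGroup' (mul_mem (inv_mem hx) hu) ?_ (mul_mem (inv_mem (hSN hx)) (hSN hu))
      obtain ⟨hxK, -⟩ := swap p hG hc hc1 S.isPGroup' hx (hSN hx) hxT
      obtain ⟨huK, -⟩ := swap p hG hc hc1 S.isPGroup' hu (hSN hu) huT
      rw [← normalizer_w_eq p hG]
      refine normalizer_le_normalizer_wOf K ?_
      rw [mem_normalizer_iff_map]
      calc K.map (MulAut.conj (x⁻¹ * u)).toMonoidHom
          = (K.map (MulAut.conj u).toMonoidHom).map (MulAut.conj x⁻¹).toMonoidHom := by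
            rw [Subgroup.map_map]; congr 1; ext a; simp [mul_assoc]
        _ = (K.map (MulAut.conj x).toMonoidHom).map (MulAut.conj x⁻¹).toMonoidHom := by rw [huK, hxK]
        _ = K := by
            rw [Subgroup.map_map]
            convert Subgroup.map_id K
            ext a; simp [mul_assoc]
    rw [inf_eq_right.2 hTS, hT16] at h
    omega
  have hS16 : 16 ≤ Nat.card (S : Subgroup G) := hT16 ▸ Subgroup.card_le_of_le hTS
  obtain ⟨n, hn⟩ := IsPGroup.iff_card.1 S.isPGroup'
  have hn' : n = 4 ∨ n = 5 := by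
    rw [hn] at hS16 hTidx
    have h4 : 4 ≤ n := by
      by_contra hcon
      interval_cases n <;> simp at hS16
    have h5 : n ≤ 5 := by
      by_contra hcon
      have := Nat.pow_le_pow_right (by norm_num : 0 < 2) (show 6 ≤ n by omega)
      omega
    omega
  -- a conjugate of `c` in `S` outside `T`
  by_cases hout : ∃ a : G, a * c * a⁻¹ ∈ (S : Subgroup G) ∧ a * c * a⁻¹ ∉ T
  · obtain ⟨a, hyS, hyT⟩ := hout
    set y := a * c * a⁻¹ with hyd
    have hy2 : y * y = 1 := by
      rw [hyd, show a * c * a⁻¹ * (a * c * a⁻¹) = a * (c * c) * a⁻¹ by group, c_sq p hG hc hc1, mul_one,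
        mul_inv_cancel]
    have hyi : y⁻¹ = y := inv_eq_of_mul_eq_one_right hy2
    obtain ⟨hzK, hzK', hz1⟩ := conj_c p hG hc hc1 S.isPGroup' hyS (hSN hyS) hyT
    obtain ⟨-, hy⟩ := swap p hG hc hc1 S.isPGroup' hyS (hSN hyS) hyT
    obtain ⟨c', hc', hc'1⟩ := exists_c p.symm (p.card_cK_eq hG ▸ card_cK_two p hG hc hc1)
    obtain ⟨-, hy'⟩ := swap p.symm hG hc' hc'1 S.isPGroup' hyS (hSN hyS) hyT
    have hycS : y * c ∈ (S : Subgroup G) := mul_mem hyS hcS
    set U := dih K K' ⊔ Subgroup.zpowers (y * c) with hU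
    have hN : Subgroup.zpowers (y * c) ≤ Subgroup.normalizer (dih K K' : Set G) :=
      Subgroup.zpowers_le.2 (hDn hycS)
    have hUS : U ≤ (S : Subgroup G) := sup_le hDS (Subgroup.zpowers_le.2 hycS)
    have hsq : y * c * (y * c) ∈ dih K K' := by
      rw [show y * c * (y * c) = y * c * y⁻¹ * c by rw [hyi]; group]
      exact Subgroup.mem_sup_left hzK
    have hmem : ∀ u ∈ U, u ∈ dih K K' ∨ ∃ d ∈ dih K K', u = d * (y * c) := by
      intro u hu
      have hu' : u ∈ ((dih K K' ⊔ Subgroup.zpowers (y * c) : Subgroup G) : Set G) := hu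
      rw [Subgroup.coe_mul_of_right_le_normalizer_left _ _ hN] at hu'
      obtain ⟨d, hd, _, ⟨m, rfl⟩, rfl⟩ := hu'
      have hk : ∀ k : ℤ, (y * c) ^ (2 * k) ∈ dih K K' := fun k => by
        rw [zpow_mul, zpow_ofNat, pow_two]; exact zpow_mem hsq k
      rcases Int.even_or_odd' m with ⟨k, rfl | rfl⟩
      · exact Or.inl (mul_mem hd (hk k))
      · exact Or.inr ⟨d * (y * c) ^ (2 * k), mul_mem hd (hk k), by
          simp only [zpow_add, zpow_one]; group⟩
    have hycT : y * c ∉ T := fun h =>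
      hyT (by simpa [mul_assoc, c_sq p hG hc hc1] using mul_mem h (c_mem_T p hG hc hc1))
    have hU16 : Nat.card U = 16 := by
      have hle := card_le_two_mul_inf (A := U) (H := dih K K') fun u hu huD v hv hvD => by
        obtain ⟨d, hd, rfl⟩ := (hmem u hu).resolve_left huD
        obtain ⟨e, he, rfl⟩ := (hmem v hv).resolve_left hvD
        rw [show (d * (y * c))⁻¹ * (e * (y * c)) = (y * c)⁻¹ * (d⁻¹ * e) * (y * c) by group]
        have := (Subgroup.mem_normalizer_iff.1 (hDn (inv_mem hycS)) (d⁻¹ * e)).1 (mul_mem (inv_mem hd) he)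
        rwa [inv_inv] at this
      rw [inf_eq_right.2 (le_sup_left : dih K K' ≤ U), card_dih p hG] at hle
      obtain ⟨k, hk⟩ := IsPGroup.iff_card.1 (S.isPGroup'.to_le hUS)
      have hlt : 8 < Nat.card U := by
        by_contra hcon
        have e := Subgroup.eq_of_le_of_card_ge (le_sup_left : dih K K' ≤ U) (by rw [card_dih p hG]; exact not_lt.1 hcon)
        exact hycT (dih_le p (e.ge (Subgroup.mem_sup_right (Subgroup.mem_zpowers _))))
      rw [hk] at hle hlt ⊢
      have : k = 4 := by
        have h4 : 4 ≤ k := by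
          by_contra hcon
          interval_cases k <;> simp at hlt
        by_contra hcon
        have := Nat.pow_le_pow_right (by norm_num : 0 < 2) (show 5 ≤ k by omega)
        omega
      rw [this]; norm_num
    have h32 : Nat.card (S : Subgroup G) = 32 := by
      rcases hn' with e | e
      · exfalso
        have := Subgroup.eq_of_le_of_card_ge hTS (by rw [hT16, hn, e]; norm_num)
        exact hyT (this ▸ hyS)
      · rw [hn, e]; norm_num
    have hidx : (U.subgroupOf (S : Subgroup G)).index = 2 := by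
      have h := Subgroup.index_mul_card (U.subgroupOf (S : Subgroup G))
      rw [Nat.card_congr (Subgroup.subgroupOfEquivOfLe hUS).toEquiv, hU16, h32] at h
      omega
    haveI : (U.subgroupOf (S : Subgroup G)).Normal := Subgroup.normal_of_index_eq_two hidx
    have hcU : c ∉ U := fun h => by
      rcases hmem c h with h' | ⟨d, hd, he⟩
      · exact c_notMem p hG hc hc1 h'
      · refine hycT ?_
        rw [show y * c = d⁻¹ * c from eq_inv_mul_of_mul_eq he.symm]
        exact mul_mem (inv_mem (dih_le p hd)) (c_mem_T p hG hc hc1)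
    have hout' : ∀ b : G, b * c * b⁻¹ ∈ (S : Subgroup G) → b * c * b⁻¹ ∉ U := by
      intro b _ hbU
      rcases hmem _ hbU with h' | ⟨d, hd, he⟩
      · exact not_conj_dih p hG hc hc1 b h'
      · have h2 : d * (y * c) * (d * (y * c)) = 1 := by
          rw [← he, show b * c * b⁻¹ * (b * c * b⁻¹) = b * (c * c) * b⁻¹ by group, c_sq p hG hc hc1, mul_one,
            mul_inv_cancel]
        refine mul_swap_ne p hG hzK hzK' hz1 hy2 hy hy' hd ?_
        -- `(d y c)² = d d^y · c^y c`
        have hdy : (y * c * y⁻¹) * (y * d * y⁻¹) = (y * d * y⁻¹) * (y * c * y⁻¹) := by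
          rw [show y * c * y⁻¹ * (y * d * y⁻¹) = y * (c * d) * y⁻¹ by group,
            ← c_comm p hG hc hc1 (p.left.mem.1.1 (dih_le p hd))]
          group
        have hzi : y * c * y⁻¹ * c * (y * c * y⁻¹ * c) = 1 := w_sq p hzK
        calc d * (y * d * y⁻¹)
            = d * (y * d * y⁻¹) * (y * c * y⁻¹ * c * (y * c * y⁻¹ * c)) := by rw [hzi, mul_one]
          _ = d * (y * c * y⁻¹) * (y * d * y⁻¹) * c * (y * c * y⁻¹ * c) := by
              rw [mul_assoc d (y * c * y⁻¹), hdy]; group
          _ = d * (y * c) * (y * y) * (d * (y * c)) * (y * c * y⁻¹ * c) := by rw [hyi]; group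
          _ = d * (y * c) * (d * (y * c)) * (y * c * y⁻¹ * c) := by rw [hy2, mul_one]
          _ = y * c * y⁻¹ * c := by rw [h2, one_mul]
    refine notMem_odd_of_transfer S (U.subgroupOf (S : Subgroup G))
      (commutative_of_card (Or.inl (by rw [← Subgroup.index_eq_card]; exact hidx))) hcS (c_sq p hG hc hc1)
      (fun h => hcU (Subgroup.mem_subgroupOf.1 h)) fun b hb => ?_
    rw [Subgroup.mul_mem_iff_of_index_two hidx]
    exact iff_of_false (fun h => hout' b hb (Subgroup.mem_subgroupOf.1 h)) (fun h => hcU (Subgroup.mem_subgroupOf.1 h))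
  · push Not at hout
    have hidx : Nat.card (↥(S : Subgroup G) ⧸ (dih K K').subgroupOf (S : Subgroup G)) = 2 ∨
        Nat.card (↥(S : Subgroup G) ⧸ (dih K K').subgroupOf (S : Subgroup G)) = 4 := by
      have h := Subgroup.index_mul_card ((dih K K').subgroupOf (S : Subgroup G))
      rw [Nat.card_congr (Subgroup.subgroupOfEquivOfLe hDS).toEquiv, card_dih p hG, hn] at h
      rw [← Subgroup.index_eq_card]
      rcases hn' with e | e <;> rw [e] at h <;> norm_num at h <;> omega
    refine notMem_odd_of_transfer S ((dih K K').subgroupOf (S : Subgroup G)) (commutative_of_card hidx) hcS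
      (c_sq p hG hc hc1) (fun h => c_notMem p hG hc hc1 (Subgroup.mem_subgroupOf.1 h)) fun b hb => ?_
    exact Subgroup.mem_subgroupOf.2
      ((T_cases p hG hc hc1 (hout b hb)).resolve_left (not_conj_dih p hG hc hc1 b))

end Cfsg.Agent.Lib.ZNPair18
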